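import Mathlib
import Cfsg.Agent.EqLemmas

/-!
A module for `PSL_2(p)` over the field with two elements without fixed vectors of elements of order `p`.

The space is `Ω`, the matrices of trace zero with square a fixed nonsquare scalar `n` (the nonsplit tori),
and the module consists of the functions on `Ω` summing to zero on all orbits of unipotent elements.
Indicator functions of suitable plane sections of `Ω` belong to it.
-/

set_option autoImplicit false

open Matrix

namespace Cfsg.Agent.IsoPGL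

variable {p : ℕ}

/-- Two-by-two matrices over the prime field. -/
abbrev M2 (p : ℕ) : Type := Matrix (Fin 2) (Fin 2) (ZMod p)

/-- The trace-zero matrices of square `n`. -/
def Om (p : ℕ) (n : ZMod p) : Type := {J : M2 p // J.trace = 0 ∧ J * J = n • (1 : M2 p)}

instance (p : ℕ) [NeZero p] (n : ZMod p) : Finite (Om p n) :=
  inferInstanceAs (Finite {J : M2 p // J.trace = 0 ∧ J * J = n • (1 : M2 p)})

instance omAction (p : ℕ) (n : ZMod p) : MulAction (M2 p)ˣ (Om p n) where
  smul g J := ⟨(g : M2 p) * J.1 * ((g⁻¹ : (M2 p)ˣ) : M2 p), by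
    refine ⟨?_, ?_⟩
    · rw [Matrix.trace_mul_cycle, ← Units.val_mul, inv_mul_cancel, Units.val_one, one_mul]
      exact J.2.1
    · calc (g : M2 p) * J.1 * ((g⁻¹ : (M2 p)ˣ) : M2 p) * ((g : M2 p) * J.1 * ((g⁻¹ : (M2 p)ˣ) : M2 p))
          = (g : M2 p) * (J.1 * (((g⁻¹ : (M2 p)ˣ) : M2 p) * (g : M2 p)) * J.1) * ((g⁻¹ : (M2 p)ˣ) : M2 p) := by
            simp only [mul_assoc]
        _ = n • (1 : M2 p) := by
            rw [← Units.val_mul, inv_mul_cancel, Units.val_one, mul_one, J.2.2]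
            simp⟩
  one_smul J := Subtype.ext (by
    show ((1 : (M2 p)ˣ) : M2 p) * J.1 * (((1 : (M2 p)ˣ)⁻¹ : (M2 p)ˣ) : M2 p) = J.1
    simp)
  mul_smul g h J := Subtype.ext (by
    show ((g * h : (M2 p)ˣ) : M2 p) * J.1 * (((g * h)⁻¹ : (M2 p)ˣ) : M2 p) =
      (g : M2 p) * ((h : M2 p) * J.1 * ((h⁻¹ : (M2 p)ˣ) : M2 p)) * ((g⁻¹ : (M2 p)ˣ) : M2 p)
    rw [_root_.mul_inv_rev, Units.val_mul, Units.val_mul]
    simp only [mul_assoc])

variable {n : ZMod p}

theorem smul_val (g : (M2 p)ˣ) (J : Om p n) :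
    (g • J).1 = (g : M2 p) * J.1 * ((g⁻¹ : (M2 p)ˣ) : M2 p) := rfl

theorem Om.entries (J : Om p n) :
    J.1 1 1 = -J.1 0 0 ∧ J.1 0 0 * J.1 0 0 + J.1 0 1 * J.1 1 0 = n := by
  have h1 := J.2.1
  rw [trace_fin_two] at h1
  have h2 := congrFun (congrFun J.2.2 0) 0
  simp [Matrix.mul_apply, Fin.sum_univ_two] at h2
  exact ⟨by linear_combination h1, h2⟩

/-- The unipotent unit `1 + t N`. -/
def unip (N : M2 p) (hN : N * N = 0) (t : ZMod p) : (M2 p)ˣ where
  val := 1 + t • N
  inv := 1 - t • N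
  val_inv := by simp [mul_sub, add_mul, smul_mul_smul_comm, hN]
  inv_val := by simp [mul_add, sub_mul, smul_mul_smul_comm, hN]

/-- The functions summing to zero on unipotent orbits. -/
def hmod (p : ℕ) [NeZero p] (n : ZMod p) : AddSubgroup (Om p n → ZMod 2) where
  carrier := {f | ∀ (N : M2 p) (hN : N * N = 0), N ≠ 0 → ∀ J, ∑ t : ZMod p, f (unip N hN t • J) = 0}
  zero_mem' := by simp
  add_mem' := fun {a b} ha hb N hN h0 J => by
    simp [Finset.sum_add_distrib, ha N hN h0 J, hb N hN h0 J]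
  neg_mem' := fun {a} ha N hN h0 J => by simp [ha N hN h0 J]

theorem mem_hmod [NeZero p] {f : Om p n → ZMod 2} : f ∈ hmod p n ↔
    ∀ (N : M2 p) (hN : N * N = 0), N ≠ 0 → ∀ J, ∑ t : ZMod p, f (unip N hN t • J) = 0 := Iff.rfl

/-- The module is invariant under conjugation. -/
theorem comp_smul_mem [NeZero p] {f : Om p n → ZMod 2} (hf : f ∈ hmod p n) (g : (M2 p)ˣ) :
    (fun J => f (g • J)) ∈ hmod p n := by
  intro N hN h0 J
  set N' : M2 p := (g : M2 p) * N * ((g⁻¹ : (M2 p)ˣ) : M2 p) with hdef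
  have hN' : N' * N' = 0 := by
    rw [hdef, show (g : M2 p) * N * ((g⁻¹ : (M2 p)ˣ) : M2 p) * ((g : M2 p) * N * ((g⁻¹ : (M2 p)ˣ) : M2 p))
      = (g : M2 p) * (N * (((g⁻¹ : (M2 p)ˣ) : M2 p) * (g : M2 p)) * N) * ((g⁻¹ : (M2 p)ˣ) : M2 p) by
        simp only [mul_assoc], ← Units.val_mul, inv_mul_cancel, Units.val_one, mul_one, hN]
    simp
  have h0' : N' ≠ 0 := by
    intro h
    apply h0
    have h' := congrArg (fun A => ((g⁻¹ : (M2 p)ˣ) : M2 p) * A * (g : M2 p)) h
    simpa [hdef, mul_assoc, ← Units.val_mul, Units.inv_mul_cancel_left] using h'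
  refine Eq.trans (Finset.sum_congr rfl fun t _ => ?_) (hf N' hN' h0' (g • J))
  show f (g • unip N hN t • J) = _
  rw [smul_smul, smul_smul]
  congr 2
  apply Units.ext
  show (g : M2 p) * (1 + t • N) = (1 + t • N') * (g : M2 p)
  rw [hdef, mul_add, add_mul, mul_one, one_mul, mul_smul_comm, smul_mul_assoc, mul_assoc,
    ← Units.val_mul, inv_mul_cancel, Units.val_one, mul_one]

/-- A unipotent element fixes no nonzero vector. -/
theorem eq_zero_of_fixed [Fact p.Prime] (hp : p ≠ 2) {f : Om p n → ZMod 2} (hf : f ∈ hmod p n)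
    {N : M2 p} (hN : N * N = 0) (h0 : N ≠ 0) (hfix : ∀ J t, f (unip N hN t • J) = f J) : f = 0 := by
  funext J
  have h := hf N hN h0 J
  simp only [hfix, Finset.sum_const, Finset.card_univ, ZMod.card] at h
  rw [nsmul_eq_mul, show (p : ZMod 2) = 1 by
    rw [← ZMod.natCast_mod, Nat.odd_iff.1 ((Fact.out : p.Prime).odd_of_ne_two hp)]; rfl, one_mul] at h
  exact h

theorem nil_trace [Fact p.Prime] {N : M2 p} (hN : N * N = 0) (h0 : N ≠ 0) :
    N 1 1 = -N 0 0 ∧ N 0 0 * N 0 0 + N 0 1 * N 1 0 = 0 := by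
  have e := fun i j => congrFun (congrFun hN i) j
  have e00 := e 0 0
  have e01 := e 0 1
  have e10 := e 1 0
  have e11 := e 1 1
  simp [Matrix.mul_apply, Fin.sum_univ_two] at e00 e01 e10 e11
  refine ⟨?_, e00⟩
  by_contra hne
  have hs : N 0 0 + N 1 1 ≠ 0 := fun h => hne (by linear_combination h)
  have b0 : N 0 1 = 0 := (mul_eq_zero.1 (show (N 0 0 + N 1 1) * N 0 1 = 0 by linear_combination e01)).resolve_left hs
  have c0 : N 1 0 = 0 := (mul_eq_zero.1 (show (N 0 0 + N 1 1) * N 1 0 = 0 by linear_combination e10)).resolve_left hs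
  rw [b0, zero_mul, add_zero] at e00
  rw [c0, zero_mul, zero_add] at e11
  apply h0
  ext i j
  fin_cases i <;> fin_cases j <;> simp [b0, c0, mul_self_eq_zero.1 e00, mul_self_eq_zero.1 e11]

/-- A nilpotent matrix pairs nontrivially with every point. -/
theorem trace_ne_zero [Fact p.Prime] (hn : ¬ IsSquare n) (hp : p ≠ 2) {N : M2 p} (hN : N * N = 0)
    (h0 : N ≠ 0) (J : Om p n) : (N * J.1).trace ≠ 0 := by
  obtain ⟨hN1, hN2⟩ := nil_trace hN h0
  obtain ⟨hJ1, hJ2⟩ := J.entries
  have htwo : (2 : ZMod p) ≠ 0 := by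
    intro h
    have h' : ((2 : ℕ) : ZMod p) = 0 := by exact_mod_cast h
    rw [ZMod.natCast_eq_zero_iff] at h'
    exact hp ((Nat.prime_dvd_prime_iff_eq Fact.out Nat.prime_two).1 h')
  intro h
  rw [trace_fin_two] at h
  simp [Matrix.mul_apply, Fin.sum_univ_two, hN1, hJ1] at h
  set w := N 0 0
  set u := N 0 1
  set v := N 1 0
  set a := J.1 0 0
  set b := J.1 0 1
  set c := J.1 1 0
  have hb : b ≠ 0 := fun hb => hn ⟨a, by rw [← hJ2, hb]; ring⟩
  have hc : c ≠ 0 := fun hc => hn ⟨a, by rw [← hJ2, hc]; ring⟩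
  have key : (u * c + w * a) * (u * c + w * a) = w * w * n := by
    linear_combination u * c * h + w * w * hJ2 - c * b * hN2
  have hw : w = 0 := by
    by_contra hw
    exact hn ⟨(u * c + w * a) / w, by field_simp; linear_combination -key⟩
  rw [hw] at key h hN2
  have hu : u = 0 := by
    have : (u * c) * (u * c) = 0 := by linear_combination key
    exact (mul_eq_zero.1 (mul_self_eq_zero.1 this)).resolve_right hc
  have hv : v = 0 := by
    have : v * b = 0 := by rw [hu] at h; linear_combination h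
    exact (mul_eq_zero.1 this).resolve_right hb
  apply h0
  ext i j
  fin_cases i <;> fin_cases j <;> simp [hN1, hw, hu, hv, w, u, v] at *
  all_goals assumption

/-- The indicator of a plane section. -/
def plane (E : M2 p) (B : ZMod p) : Om p n → ZMod 2 := fun J => if (J.1 * E).trace = B then 1 else 0

theorem trace_unip (E : M2 p) [Fact p.Prime] {N : M2 p} (hN : N * N = 0) (h0 : N ≠ 0) (J : Om p n)
    (t : ZMod p) : ((unip N hN t • J).1 * E).trace = (J.1 * E).trace +
      t * ((N * J.1 - J.1 * N) * E).trace - t * t * ((N * J.1).trace * (N * E).trace) := by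
  obtain ⟨hN1, hN2⟩ := nil_trace hN h0
  obtain ⟨hJ1, -⟩ := J.entries
  rw [smul_val, show ((unip N hN t : (M2 p)ˣ) : M2 p) = 1 + t • N from rfl,
    show (((unip N hN t)⁻¹ : (M2 p)ˣ) : M2 p) = 1 - t • N from rfl]
  simp [trace_fin_two, Matrix.mul_apply, Fin.sum_univ_two, hN1, hJ1]
  grobner

/-- No line of a unipotent orbit is tangent to an admissible section. -/
theorem not_tangent [Fact p.Prime] (hn : ¬ IsSquare n) (hp : p ≠ 2) {E : M2 p} {e B : ZMod p}
    (hE1 : E 1 1 = -E 0 0) (hE2 : E 0 0 * E 0 0 + E 0 1 * E 1 0 = e)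
    (hB : ¬ IsSquare (B * B - 4 * n * e)) {N : M2 p} (hN : N * N = 0) (h0 : N ≠ 0) (J : Om p n)
    (hJ : (J.1 * E).trace = B) : ((N * J.1 - J.1 * N) * E).trace ≠ 0 := by
  obtain ⟨hN1, hN2⟩ := nil_trace hN h0
  obtain ⟨hJ1, hJ2⟩ := J.entries
  have hc := trace_ne_zero hn hp hN h0 J
  intro h
  set W := N * J.1 - J.1 * N
  apply hB
  refine ⟨(J.1 0 0 * (E 0 1 * W 1 0 - E 1 0 * W 0 1) - J.1 0 1 * (E 0 0 * W 1 0 - E 1 0 * W 0 0) +
    J.1 1 0 * (E 0 0 * W 0 1 - E 0 1 * W 0 0)) / (N * J.1).trace, ?_⟩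
  field_simp
  have hW1 : W 1 1 = -W 0 0 := by
    simp [W, Matrix.mul_apply, Fin.sum_univ_two, hN1, hJ1]; ring
  have hWW : W 0 0 * W 0 0 + W 0 1 * W 1 0 = (N * J.1).trace * (N * J.1).trace := by
    simp [W, trace_fin_two, Matrix.mul_apply, Fin.sum_univ_two, hN1, hJ1]
    linear_combination (-4 * (J.1 0 0 * J.1 0 0 + J.1 0 1 * J.1 1 0)) * hN2
  have hWJ : 2 * W 0 0 * J.1 0 0 + W 0 1 * J.1 1 0 + W 1 0 * J.1 0 1 = 0 := by
    simp [W, Matrix.mul_apply, Fin.sum_univ_two, hN1, hJ1]; ring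
  have hWE : 2 * W 0 0 * E 0 0 + W 0 1 * E 1 0 + W 1 0 * E 0 1 = 0 := by
    rw [trace_fin_two] at h
    simp [Matrix.mul_apply, Fin.sum_univ_two, hW1, hE1] at h
    linear_combination h
  have hJE : 2 * J.1 0 0 * E 0 0 + J.1 0 1 * E 1 0 + J.1 1 0 * E 0 1 = B := by
    rw [trace_fin_two] at hJ
    simp [Matrix.mul_apply, Fin.sum_univ_two, hJ1, hE1] at hJ
    linear_combination hJ
  generalize (N * J.1).trace = c at hWW hc ⊢
  subst hJE hE2
  generalize W 0 0 = w at hWJ hWE hWW ⊢
  generalize W 0 1 = u at hWJ hWE hWW ⊢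
  generalize W 1 0 = v at hWJ hWE hWW ⊢
  grobner

theorem trace_comm_unip [Fact p.Prime] (E : M2 p) {N : M2 p} (hN : N * N = 0) (h0 : N ≠ 0) (J : Om p n)
    (t : ZMod p) : ((N * (unip N hN t • J).1 - (unip N hN t • J).1 * N) * E).trace =
      ((N * J.1 - J.1 * N) * E).trace - 2 * t * ((N * J.1).trace * (N * E).trace) := by
  obtain ⟨hN1, hN2⟩ := nil_trace hN h0
  obtain ⟨hJ1, -⟩ := J.entries
  rw [smul_val, show ((unip N hN t : (M2 p)ˣ) : M2 p) = 1 + t • N from rfl,
    show (((unip N hN t)⁻¹ : (M2 p)ˣ) : M2 p) = 1 - t • N from rfl]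
  simp [trace_fin_two, Matrix.mul_apply, Fin.sum_univ_two, hN1, hJ1]
  grobner

/-- The number, modulo 2, of points of a unipotent orbit in an admissible section. -/
theorem sum_plane [Fact p.Prime] (hn : ¬ IsSquare n) (hp : p ≠ 2) {E : M2 p} {e B : ZMod p}
    (hE1 : E 1 1 = -E 0 0) (hE2 : E 0 0 * E 0 0 + E 0 1 * E 1 0 = e)
    (hB : ¬ IsSquare (B * B - 4 * n * e)) {N : M2 p} (hN : N * N = 0) (h0 : N ≠ 0) (J : Om p n) :
    ∑ t : ZMod p, plane E B (unip N hN t • J) =
      if (N * E).trace = 0 ∧ ((N * J.1 - J.1 * N) * E).trace ≠ 0 then 1 else 0 := by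
  set c := (N * J.1).trace
  set L := (N * E).trace
  set A := ((N * J.1 - J.1 * N) * E).trace
  have hc : c ≠ 0 := trace_ne_zero hn hp hN h0 J
  have htan : ∀ t, (((unip N hN t • J).1 * E).trace = B) → A - 2 * t * (c * L) ≠ 0 := by
    intro t ht
    rw [← trace_comm_unip E hN h0 J t]
    exact not_tangent hn hp hE1 hE2 hB hN h0 _ ht
  by_cases hL : L = 0
  · by_cases hA : A = 0
    · rw [if_neg (fun h => h.2 hA)]
      refine Finset.sum_eq_zero fun t _ => if_neg fun ht => htan t ht ?_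
      rw [hA, hL]; ring
    · rw [if_pos ⟨hL, hA⟩, Finset.sum_eq_single ((B - (J.1 * E).trace) / A)]
      · refine if_pos ?_
        rw [trace_unip E hN h0]
        show (J.1 * E).trace + _ * A - _ * (c * L) = B
        rw [hL]
        field_simp
        ring
      · intro t _ ht
        refine if_neg fun h => ht ?_
        rw [trace_unip E hN h0] at h
        change (J.1 * E).trace + t * A - _ * (c * L) = B at h
        rw [hL] at h
        field_simp
        linear_combination h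
      · simp
  · rw [if_neg (fun h => hL h.1)]
    refine Finset.sum_involution (fun t _ => A / (c * L) - t) (fun t _ => ?_) (fun t _ hne heq => ?_)
      (fun t _ => Finset.mem_univ _) (fun t _ => by ring)
    · have hsame : ((unip N hN (A / (c * L) - t) • J).1 * E).trace =
          ((unip N hN t • J).1 * E).trace := by
        rw [trace_unip E hN h0, trace_unip E hN h0]
        show (J.1 * E).trace + _ * A - _ * (c * L) = (J.1 * E).trace + t * A - t * t * (c * L)
        field_simp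
        ring
      simp only [plane, hsame]
      exact CharTwo.add_self_eq_zero _
    · refine htan t ?_ ?_
      · by_contra ht
        exact hne (if_neg ht)
      · have : A / (c * L) = 2 * t := by linear_combination heq
        rw [← this]
        field_simp
        ring

/-- A section centred at a point of `Ω` lies in the module. -/
theorem plane_mem [Fact p.Prime] (hn : ¬ IsSquare n) (hp : p ≠ 2) (E : Om p n) {B : ZMod p}
    (hB : ¬ IsSquare (B * B - 4 * n * n)) : plane E.1 B ∈ hmod p n := by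
  intro N hN h0 J
  rw [sum_plane hn hp E.entries.1 E.entries.2 hB hN h0 J,
    if_neg fun h => trace_ne_zero hn hp hN h0 E h.1]

/-- Two parallel sections orthogonal to a split torus give an element of the module. -/
theorem plane_pair_mem [Fact p.Prime] (hn : ¬ IsSquare n) (hp : p ≠ 2) {E : M2 p} {B B' : ZMod p}
    (hE1 : E 1 1 = -E 0 0) (hE2 : E 0 0 * E 0 0 + E 0 1 * E 1 0 = 1)
    (hB : ¬ IsSquare (B * B - 4 * n * 1)) (hB' : ¬ IsSquare (B' * B' - 4 * n * 1)) :
    plane E B + plane E B' ∈ hmod p n := by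
  intro N hN h0 J
  simp only [Pi.add_apply, Finset.sum_add_distrib]
  rw [sum_plane hn hp hE1 hE2 hB hN h0 J, sum_plane hn hp hE1 hE2 hB' hN h0 J]
  exact CharTwo.add_self_eq_zero _

/-- A square shifted by a nonzero element is not always a square. -/
theorem exists_nonsquare_shift [Fact p.Prime] (hp : 5 ≤ p) {a : ZMod p} (ha : a ≠ 0) :
    ∃ k : ZMod p, k ≠ 0 ∧ ¬ IsSquare (k * k - a) := by
  by_contra! h
  have hne : ∀ m : ℕ, 0 < m → m < p → (m : ZMod p) ≠ 0 := fun m h1 h2 hm => by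
    rw [ZMod.natCast_eq_zero_iff] at hm
    exact absurd (Nat.le_of_dvd h1 hm) (by omega)
  have h2 : (2 : ZMod p) ≠ 0 := by exact_mod_cast hne 2 (by omega) (by omega)
  have h3 : (3 : ZMod p) ≠ 0 := by exact_mod_cast hne 3 (by omega) (by omega)
  choose! l hl using h
  let ψ : {k : ZMod p // k ≠ 0} → {k : ZMod p // k ≠ 0} := fun k => ⟨k.1 + l k.1, fun hz => ha (by
    linear_combination (k.1 - l k.1) * hz - hl k.1 k.2)⟩
  have hinj : ∀ k k' : ZMod p, k ≠ 0 → k' ≠ 0 → ∀ u, u ≠ 0 →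
      (k + l k = u ∨ k - l k = u) → (k' + l k' = u ∨ k' - l k' = u) → k = k' := by
    intro k k' hk hk' u hu h1 h1'
    have e : ∀ j, j ≠ 0 → (j + l j = u ∨ j - l j = u) → 2 * (j * u) = u * u + a := by
      intro j hj h
      rcases h with h | h <;> · rw [← h]; linear_combination hl j hj
    have h := (e k hk h1).trans (e k' hk' h1').symm
    exact mul_right_cancel₀ hu (mul_left_cancel₀ h2 h)
  have hψ : Function.Surjective ψ := by
    refine Finite.injective_iff_surjective.1 fun k k' hkk' => Subtype.ext ?_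
    exact hinj _ _ k.2 k'.2 _ (ψ k).2 (Or.inl rfl) (Or.inl (congrArg Subtype.val hkk').symm)
  have hall : ∀ k : ZMod p, k ≠ 0 → k * k = a := by
    intro k hk
    have hu : k - l k ≠ 0 := fun hz => ha (by linear_combination (k + l k) * hz - hl k hk)
    obtain ⟨k', hk'⟩ := hψ ⟨_, hu⟩
    have hk'' : k'.1 + l k'.1 = k - l k := congrArg Subtype.val hk'
    have hkk := hinj _ _ hk k'.2 _ hu (Or.inr rfl) (Or.inl hk'')
    rw [← hkk] at hk''
    have : l k = 0 := by
      have : 2 * l k = 0 := by linear_combination hk''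
      exact (mul_eq_zero.1 this).resolve_left h2
    linear_combination hl k hk + (l k) * this
  have := (hall 1 one_ne_zero).trans (hall 2 h2).symm
  exact h3 (by linear_combination -this)

end Cfsg.Agent.IsoPGL
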