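import Cfsg.Agent.Lib.PSL2.Dihedral
import Cfsg.Agent.Lib.PSL2.Existence
import Cfsg.Agent.Lib.GLOrder.Torus

/-!
The element orders of `PGL_2(q)`, `q` odd: the divisors of `q - 1` and `q + 1`, and `p`.
-/

set_option autoImplicit false
set_option linter.unusedSectionVars false

open Matrix MulAction Cfsg.Agent.PSL2

namespace Cfsg.Agent.IsoPGL

variable {F : Type*} [Field F] [Finite F]

theorem exists_pow_orderOf {G : Type*} [Group G] [Finite G] (a : G) {m : ℕ} (h : m ∣ orderOf a) :
    ∃ b : G, orderOf b = m := by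
  obtain ⟨c, hc⟩ := GLOrder.exists_orderOf_of_dvd (G := Subgroup.zpowers a) (d := m)
    (by rw [Nat.card_zpowers]; exact h)
  exact ⟨c, by rw [Subgroup.orderOf_coe]; exact hc⟩

/-- No element of `PGL_2(q)` has order `2 p`. -/
theorem not_orderOf_two_mul (p : ℕ) [Fact p.Prime] [CharP F p] (hp : p ≠ 2) (g : PGL2 F) :
    orderOf g ≠ 2 * p := by
  intro hg
  have hp3 : 3 ≤ p := by have := (Fact.out : p.Prime).two_le; omega
  have hu : (g * g) ^ p = 1 := by rw [← pow_two, ← pow_mul, ← hg, pow_orderOf_eq_one]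
  have hu1 : g * g ≠ 1 := fun h => by
    have := Nat.le_of_dvd two_pos (orderOf_dvd_of_pow_eq_one (x := g) (by rw [pow_two, h]))
    omega
  have hgp : g ^ p ≠ 1 := fun h => by
    have := Nat.le_of_dvd (by omega) (orderOf_dvd_of_pow_eq_one h)
    omega
  -- the square fixes a point
  obtain ⟨n, hn, hq⟩ := GLOrder.exists_card_eq_pow (F := F) p
  have hpg : IsPGroup p (Subgroup.zpowers (g * g)) := IsPGroup.of_card (n := 1) (by
    rw [Nat.card_zpowers, pow_one]; exact orderOf_eq_prime hu hu1)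
  obtain ⟨P, hP⟩ := hpg.nonempty_fixed_point_of_prime_not_dvd_card (Pt F) (by
    rw [card_pt, hq]
    intro h
    rw [Nat.dvd_add_right (dvd_pow_self p (by omega))] at h
    exact absurd (Nat.le_of_dvd one_pos h) (by omega))
  have hfix : (g * g) • P = P := hP ⟨g * g, Subgroup.mem_zpowers _⟩
  -- move it to infinity
  obtain ⟨h, hh⟩ := exists_map_pinf P
  set g' := h * g * h⁻¹ with hg'
  have hsq : g' * g' = h * (g * g) * h⁻¹ := by simp [hg', mul_assoc]
  have hfix' : (g' * g') • (pinf : Pt F) = pinf := by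
    rw [hsq, mul_smul, mul_smul, ← hh, inv_smul_smul, hfix]
  obtain ⟨a, b, hab⟩ := exists_aff_of_fix hfix'
  have ha : a = 1 := by
    rw [← aff_pow_char_iff p (b := b), ← hab, hsq, conj_pow, hu, mul_one, mul_inv_cancel]
  subst ha
  have hb : b ≠ 0 := fun hb => hu1 (by
    have : g' * g' = 1 := by rw [hab, hb, aff_one_zero]
    rw [hsq] at this
    simpa [mul_inv_eq_one] using this)
  have hne : aff (1 : Fˣ) b ≠ 1 := by rw [ne_eq, aff_eq_one_iff]; simp [hb]
  have hgfix : g' • (pinf : Pt F) = pinf := by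
    have h1 : g' • (pinf : Pt F) ∈ fixedBy (Pt F) (aff (1 : Fˣ) b) := by
      rw [MulAction.mem_fixedBy, ← hab, ← mul_smul, mul_assoc, mul_smul g' (g' * g'), hfix']
    rcases fixedBy_aff p hne with ⟨-, h2⟩ | ⟨h2, -⟩
    · simpa [h2] using h1
    · exact absurd ((aff_pow_char_iff p).2 rfl) h2
  obtain ⟨a', b', hab'⟩ := exists_aff_of_fix hgfix
  rw [hab', aff_mul_aff, aff_inj] at hab
  have ha' : (a' : F) * a' = 1 := by rw [← Units.val_mul, hab.1, Units.val_one]
  rcases mul_self_eq_one_iff.1 ha' with e | e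
  · apply hgp
    have h1 : g' ^ p = 1 := by rw [hab', aff_pow_char_iff]; exact Units.ext e
    rw [hg', conj_pow] at h1
    simpa [mul_inv_eq_one] using h1
  · exact hb (by rw [← hab.2, e]; ring)

/-- The element orders of `PGL_2(q)`. -/
theorem range_pgl_orderOf (p : ℕ) [Fact p.Prime] [CharP F p] (hp : p ≠ 2) :
    Set.range (orderOf : PGL2 F → ℕ) =
      {m : ℕ | m ∣ Nat.card F - 1 ∨ m ∣ Nat.card F + 1 ∨ m = p} := by
  have hq1 : 1 < Nat.card F := Finite.one_lt_card
  have : Finite (PGL2 F) := Finite.of_surjective _ ProjGenLinGroup.mk_surjective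
  ext m
  constructor
  · rintro ⟨g, rfl⟩
    rcases pgl_orderOf_cases p hp g with h | h | h
    · exact Or.inl h
    · exact Or.inr (Or.inl h)
    · obtain ⟨k, l, hk, hl, hkl⟩ := exists_dvd_and_dvd_of_dvd_mul h
      rcases (Nat.dvd_prime Fact.out).1 hl with rfl | rfl
      · right; left
        obtain ⟨n, hn, hq⟩ := GLOrder.exists_card_eq_pow (F := F) p
        rw [hkl, mul_one]
        refine hk.trans (even_iff_two_dvd.1 (Odd.add_one ?_))
        rw [hq]; exact ((Fact.out : p.Prime).odd_of_ne_two hp).pow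
      · rcases (Nat.dvd_prime Nat.prime_two).1 hk with rfl | rfl
        · exact Or.inr (Or.inr (by rw [hkl, one_mul]))
        · exact absurd hkl (not_orderOf_two_mul l hp g)
  · rintro (h | h | rfl)
    · obtain ⟨s, hs⟩ := GLOrder.exists_orderOf_of_dvd (G := Fˣ) (d := m) (by rw [Nat.card_units]; exact h)
      let f : Fˣ →* PGL2 F :=
        { toFun := fun a => aff a 0
          map_one' := aff_one_zero
          map_mul' := fun a a' => by rw [aff_mul_aff]; simp }
      have hf : Function.Injective f := fun a a' e => (aff_inj.1 e).1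
      exact ⟨f s, by rw [orderOf_injective f hf, hs]⟩
    · obtain ⟨G0, hG0⟩ := GLOrder.exists_cyclic_GL_two (F := F)
      suffices hd : Nat.card F + 1 ∣ orderOf (ProjGenLinGroup.mk G0 : PGL2 F) from
        exists_pow_orderOf _ (h.trans hd)
      set k := orderOf (ProjGenLinGroup.mk G0 : PGL2 F)
      have hc : G0 ^ k ∈ Subgroup.center (GL (Fin 2) F) := by
        rw [← QuotientGroup.eq_one_iff]
        have : (ProjGenLinGroup.mk G0 : PGL2 F) ^ k = 1 := pow_orderOf_eq_one _
        rw [← map_pow] at this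
        exact this
      obtain ⟨u, hu⟩ : ∃ u : Fˣ, GeneralLinearGroup.scalar (Fin 2) u = G0 ^ k := by
        have := (GeneralLinearGroup.center_eq_range_scalar (n := Fin 2) (R := F)) ▸ hc
        exact this
      have h1 : G0 ^ (k * (Nat.card F - 1)) = 1 := by
        rw [pow_mul, ← hu, ← map_pow, ← Nat.card_units F, pow_card_eq_one', map_one]
      have h2 := orderOf_dvd_of_pow_eq_one h1
      rw [hG0, GLOrder.sq_sub_one] at h2
      exact Nat.dvd_of_mul_dvd_mul_right (by omega) h2
    · refine ⟨aff 1 1, orderOf_eq_prime ((aff_pow_char_iff m).2 rfl) ?_⟩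
      rw [ne_eq, aff_eq_one_iff]; simp

end Cfsg.Agent.IsoPGL
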