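import Cfsg.Agent.Lib.IsoPGL.Semidirect
import Cfsg.Agent.Lib.IsoPGL.Spectrum

/-!
A solvable Frobenius group with the element orders of `PGL_2(9)`: a module over the field with three
elements extended by a fixed-point-free group `5 : 8`.
-/

set_option autoImplicit false

open SemidirectProduct

namespace Cfsg.Agent.IsoPGL

/-- The action of the cyclic group of order 8 on that of order 5 through the powers of 2. -/
def twist : Multiplicative (ZMod 8) →* MulAut (Multiplicative (ZMod 5)) where
  toFun i :=
    { toFun := fun x => Multiplicative.ofAdd ((2 : ZMod 5) ^ (Multiplicative.toAdd i).val * Multiplicative.toAdd x)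
      invFun := fun x => Multiplicative.ofAdd ((3 : ZMod 5) ^ (Multiplicative.toAdd i).val * Multiplicative.toAdd x)
      left_inv := fun x => by revert i x; decide +kernel
      right_inv := fun x => by revert i x; decide +kernel
      map_mul' := fun x y => by revert i x y; decide +kernel }
  map_one' := MulEquiv.ext (by decide +kernel)
  map_mul' i j := MulEquiv.ext (by revert i j; decide +kernel)

/-- The complement `5 : 8`. -/
abbrev X58 : Type := Multiplicative (ZMod 5) ⋊[twist] Multiplicative (ZMod 8)

/-- An element of the complement from its two coordinates. -/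
def el (a : ZMod 5) (i : ZMod 8) : X58 := ⟨Multiplicative.ofAdd a, Multiplicative.ofAdd i⟩

theorem el_surj (x : X58) : ∃ a i, el a i = x :=
  ⟨Multiplicative.toAdd x.left, Multiplicative.toAdd x.right, rfl⟩

theorem X58_pow_cases : ∀ a i, el a i ^ 8 = 1 ∨ el a i ^ 10 = 1 := by decide +kernel

theorem X58_prime_power : ∀ a i, el a i = 1 ∨ ∃ k : Fin 40, el a i ^ k.val = el 0 4 ∨
    el a i ^ k.val = el 1 0 := by decide +kernel

theorem X58_order : (el 0 1 ^ 8 = 1 ∧ el 0 1 ^ 4 ≠ 1) ∧
    (el 1 4 ^ 10 = 1 ∧ el 1 4 ^ 5 ≠ 1 ∧ el 1 4 ^ 2 ≠ 1) := by decide +kernel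

/-- The fixed-point-free module. -/
def vnine : AddSubgroup (X58 → ZMod 3) where
  carrier := {f | (∀ x, f (el 0 4 * x) = -f x) ∧ ∀ x, ∑ a : ZMod 5, f (el a 0 * x) = 0}
  zero_mem' := by simp
  add_mem' := fun {f f'} hf hf' => ⟨fun x => by simp [hf.1 x, hf'.1 x]; ring,
    fun x => by simp [Finset.sum_add_distrib, hf.2 x, hf'.2 x]⟩
  neg_mem' := fun {f} hf => ⟨fun x => by simp [hf.1 x], fun x => by simp [hf.2 x]⟩

/-- The module written multiplicatively. -/
abbrev W9 : Type := Multiplicative vnine

/-- Right translation. -/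
def actNine : X58 →* MulAut W9 where
  toFun g := AddEquiv.toMultiplicative
    { toFun := fun f => ⟨fun x => f.1 (x * g),
        fun x => by simpa [mul_assoc] using f.2.1 (x * g),
        fun x => by simpa [mul_assoc] using f.2.2 (x * g)⟩
      invFun := fun f => ⟨fun x => f.1 (x * g⁻¹),
        fun x => by simpa [mul_assoc] using f.2.1 (x * g⁻¹),
        fun x => by simpa [mul_assoc] using f.2.2 (x * g⁻¹)⟩
      left_inv := fun f => Subtype.ext (funext fun x => by simp [mul_assoc])
      right_inv := fun f => Subtype.ext (funext fun x => by simp [mul_assoc])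
      map_add' := fun f f' => rfl }
  map_one' := by
    refine MulEquiv.ext fun f => Multiplicative.toAdd.injective (Subtype.ext (funext fun x => ?_))
    show (Multiplicative.toAdd f).1 (x * 1) = (Multiplicative.toAdd f).1 x
    rw [mul_one]
  map_mul' g h := by
    refine MulEquiv.ext fun f => Multiplicative.toAdd.injective (Subtype.ext (funext fun x => ?_))
    show (Multiplicative.toAdd f).1 (x * (g * h)) = (Multiplicative.toAdd f).1 (x * g * h)
    rw [mul_assoc]

theorem actNine_apply (g : X58) (w : W9) (x : X58) :
    (Multiplicative.toAdd (actNine g w)).1 x = (Multiplicative.toAdd w).1 (x * g) := rfl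

/-- Only the trivial vector is fixed by a nontrivial element. -/
theorem fpf_nine {g : X58} (hg : g ≠ 1) {w : W9} (hw : actNine g w = w) : w = 1 := by
  have hpow : ∀ k : ℕ, actNine (g ^ k) w = w := by
    intro k
    induction k with
    | zero => rw [pow_zero, map_one, MulAut.one_apply]
    | succ k ih => rw [pow_succ, map_mul, MulAut.mul_apply, hw, ih]
  obtain ⟨a, i, rfl⟩ := el_surj g
  obtain ⟨hm1, hm2⟩ := (Multiplicative.toAdd w).2
  apply Multiplicative.toAdd.injective
  refine Subtype.ext (funext fun x => ?_)
  obtain ⟨k, hk | hk⟩ := (X58_prime_power a i).resolve_left hg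
  · have h := congrArg (fun v : W9 => (Multiplicative.toAdd v).1 x) (hpow k.val)
    rw [hk] at h
    simp only [actNine_apply] at h
    have hc0 : ∀ b j, el b j * el 0 4 = el 0 4 * el b j := by decide +kernel
    have hc : x * el 0 4 = el 0 4 * x := by
      obtain ⟨b, j, rfl⟩ := el_surj x
      exact hc0 b j
    rw [hc, hm1] at h
    show _ = (0 : ZMod 3)
    revert h
    generalize (Multiplicative.toAdd w).1 x = v
    revert v
    decide +kernel
  · have hn : ∀ (m : ℕ) y, (Multiplicative.toAdd w).1 (y * el 1 0 ^ m) = (Multiplicative.toAdd w).1 y := by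
      intro m y
      have h := congrArg (fun v : W9 => (Multiplicative.toAdd v).1 y) (hpow (k.val * m))
      rw [pow_mul, hk] at h
      exact h
    have hall : ∀ b : ZMod 5, (Multiplicative.toAdd w).1 (el b 0 * x) = (Multiplicative.toAdd w).1 x := by
      intro b
      have he : ∀ (x : X58) (b : ZMod 5), ∃ m : Fin 5, el b 0 * x = x * el 1 0 ^ m.val := by
        intro x b
        obtain ⟨c, j, rfl⟩ := el_surj x
        revert b c j
        decide +kernel
      obtain ⟨m, hm⟩ := he x b
      rw [hm, hn]
    have h := hm2 x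
    simp only [hall, Finset.sum_const, Finset.card_univ, ZMod.card] at h
    show _ = (0 : ZMod 3)
    revert h
    generalize (Multiplicative.toAdd w).1 x = v
    revert v
    decide +kernel

theorem exp_three (w : W9) : w ^ 3 = 1 := by
  apply Multiplicative.toAdd.injective
  rw [toAdd_pow, toAdd_one]
  refine Subtype.ext (funext fun x => ?_)
  show (3 : ℕ) • (Multiplicative.toAdd w).1 x = 0
  generalize (Multiplicative.toAdd w).1 x = v
  revert v
  decide +kernel

/-- A nonzero vector. -/
def seed : X58 → ZMod 3 := fun x =>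
  (if x = el 0 0 ∨ x = el 1 4 then 1 else 0) - (if x = el 1 0 ∨ x = el 0 4 then 1 else 0)

theorem seed_mem : seed ∈ vnine := by
  have h1 : ∀ b j, seed (el 0 4 * el b j) = -seed (el b j) := by decide +kernel
  have h2 : ∀ b j, ∑ a : ZMod 5, seed (el a 0 * el b j) = 0 := by decide +kernel
  refine ⟨fun x => ?_, fun x => ?_⟩
  · obtain ⟨b, j, rfl⟩ := el_surj x; exact h1 b j
  · obtain ⟨b, j, rfl⟩ := el_surj x; exact h2 b j

/-- The extension with the element orders of `PGL_2(9)`. -/
theorem exists_nine_model :
    ∃ (H : Type) (_ : Group H) (_ : Finite H) (K : Subgroup H), K.Normal ∧ K ≠ ⊥ ∧ Group.IsSolvable K ∧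
      Set.range (orderOf : H → ℕ) = {m : ℕ | m ∣ 9 - 1 ∨ m ∣ 9 + 1 ∨ m = 3} := by
  have : Finite X58 := Finite.of_equiv _ SemidirectProduct.equivProd.symm
  have hfin : Finite W9 := inferInstance
  have : Finite (W9 ⋊[actNine] X58) := Finite.of_equiv _ SemidirectProduct.equivProd.symm
  set w : W9 := Multiplicative.ofAdd ⟨seed, seed_mem⟩
  have hw : w ≠ 1 := fun h => by
    have := congrArg (fun v : W9 => (Multiplicative.toAdd v).1 (el 0 0)) h
    revert this
    decide +kernel
  refine ⟨W9 ⋊[actNine] X58, inferInstance, inferInstance, inl.range, range_inl_normal, ?_, ?_, ?_⟩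
  · intro hbot
    have : (inl w : W9 ⋊[actNine] X58) ∈ (⊥ : Subgroup _) := hbot ▸ ⟨w, rfl⟩
    exact hw (inl_injective ((Subgroup.mem_bot.1 this).trans (map_one _).symm))
  · exact Group.isSolvable_of_comm fun x y => Subtype.ext (by
      obtain ⟨x, u, rfl⟩ := x
      obtain ⟨y, v, rfl⟩ := y
      simp [← map_mul, mul_comm])
  · have h0 := exp_three
    ext m
    constructor
    · rintro ⟨a, rfl⟩
      rcases orderOf_cases Nat.prime_three h0 a with ⟨-, h⟩ | ⟨hne, h⟩
      · rw [h]
        obtain ⟨b, j, hbj⟩ := el_surj a.right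
        rw [← hbj]
        rcases X58_pow_cases b j with e | e
        · exact Or.inl (orderOf_dvd_of_pow_eq_one e)
        · exact Or.inr (Or.inl (orderOf_dvd_of_pow_eq_one e))
      · have hr : a.right = 1 := by
          by_contra hr
          exact hne (fpf_nine hr (left_pow_fixed a))
        right; right
        rw [h, hr, orderOf_one, one_mul]
    · obtain ⟨⟨h8, h4⟩, h10, h5, h2⟩ := X58_order
      rintro (h | h | rfl)
      · obtain ⟨a, ha⟩ := exists_orderOf_image (φ := actNine) (el 0 1)
        refine exists_pow_orderOf a ?_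
        rw [ha, orderOf_eq_prime_pow (p := 2) (n := 2) h4 h8]
        exact h
      · obtain ⟨a, ha⟩ := exists_orderOf_image (φ := actNine) (el 1 4)
        refine exists_pow_orderOf a ?_
        have e10 : orderOf (el 1 4) = 10 := by
          refine orderOf_eq_of_pow_and_pow_div_prime (by norm_num) h10 fun q hq hq' => ?_
          have : q ≤ 10 := Nat.le_of_dvd (by norm_num) hq'
          interval_cases q <;> first | exact h5 | exact h2 | (exfalso; revert hq'; decide +revert) | (exfalso; revert hq; decide +revert)
        rw [ha, e10]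
        exact h
      · obtain ⟨a, ha⟩ := exists_orderOf_mul (φ := actNine) Nat.prime_three h0 (w := w) (g := 1) (by
          simpa [orderOf_one] using hw)
        exact ⟨a, by rw [ha, orderOf_one]⟩

end Cfsg.Agent.IsoPGL
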