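import Mathlib
import Cfsg.Agent.EqLemmas

/-!
Element orders in a split extension of a group of prime exponent.
-/

set_option autoImplicit false

namespace Cfsg.Agent.IsoPGL

variable {W X : Type*} [CommGroup W] [Group X] {φ : X →* MulAut W}

open SemidirectProduct

/-- The `o`-th power, `o` the order of the image in `X`, is centralised by that image. -/
theorem left_pow_fixed (a : W ⋊[φ] X) :
    φ a.right (a ^ orderOf a.right).left = (a ^ orderOf a.right).left := by
  have hr : (a ^ orderOf a.right).right = 1 := by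
    rw [show (a ^ orderOf a.right).right = a.right ^ orderOf a.right from
      map_pow (rightHom : W ⋊[φ] X →* X) a _, pow_orderOf_eq_one]
  have h := congrArg SemidirectProduct.left ((Commute.self_pow a (orderOf a.right)).eq)
  rw [mul_left, mul_left, hr, map_one, MulAut.one_apply, mul_comm] at h
  exact mul_right_cancel h

/-- The order is that of the image in `X`, times `r` when the power above is nontrivial. -/
theorem orderOf_cases {r : ℕ} (hr : r.Prime) (hexp : ∀ w : W, w ^ r = 1) (a : W ⋊[φ] X) :
    ((a ^ orderOf a.right).left = 1 ∧ orderOf a = orderOf a.right) ∨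
      ((a ^ orderOf a.right).left ≠ 1 ∧ orderOf a = orderOf a.right * r) := by
  have hpr : (a ^ orderOf a.right).right = 1 := by
    rw [show (a ^ orderOf a.right).right = a.right ^ orderOf a.right from
      map_pow (rightHom : W ⋊[φ] X →* X) a _, pow_orderOf_eq_one]
  have hinl : a ^ orderOf a.right = inl (a ^ orderOf a.right).left :=
    SemidirectProduct.ext (by simp) (by simp [hpr])
  have hdvd : orderOf a.right ∣ orderOf a := orderOf_map_dvd (rightHom : W ⋊[φ] X →* X) a
  have hle : a ^ (orderOf a.right * r) = 1 := by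
    rw [pow_mul, hinl, ← map_pow, hexp, map_one]
  by_cases h : (a ^ orderOf a.right).left = 1
  · refine Or.inl ⟨h, Nat.dvd_antisymm (orderOf_dvd_of_pow_eq_one ?_) hdvd⟩
    rw [hinl, h, map_one]
  · refine Or.inr ⟨h, ?_⟩
    obtain ⟨k, hk⟩ := hdvd
    have h1 : orderOf a ∣ orderOf a.right * r := orderOf_dvd_of_pow_eq_one hle
    rw [hk] at h1
    rcases Nat.eq_zero_or_pos (orderOf a.right) with h0 | h0
    · rw [hk, h0, zero_mul, zero_mul]
    rcases (Nat.dvd_prime hr).1 ((Nat.mul_dvd_mul_iff_left h0).1 h1) with e | e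
    · refine absurd ?_ h
      have h2 : a ^ orderOf a.right = 1 := by
        rw [← mul_one (orderOf a.right), ← e, ← hk, pow_orderOf_eq_one]
      rw [h2, one_left]
    · rw [hk, e]

theorem pow_left_formula (w : W) (g : X) (n : ℕ) :
    ((inl w * inr g : W ⋊[φ] X) ^ n).left = ∏ i ∈ Finset.range n, φ (g ^ i) w ∧
      ((inl w * inr g : W ⋊[φ] X) ^ n).right = g ^ n := by
  induction n with
  | zero => simp
  | succ n ih =>
    rw [pow_succ]
    refine ⟨?_, ?_⟩
    · rw [mul_left, ih.1, ih.2, Finset.prod_range_succ]
      simp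
    · rw [mul_right, ih.2, pow_succ]
      simp

/-- An element of the extension whose order is `r` times that of its image. -/
theorem exists_orderOf_mul {r : ℕ} (hr : r.Prime) (hexp : ∀ w : W, w ^ r = 1) {w : W} {g : X}
    (h : ∏ i ∈ Finset.range (orderOf g), φ (g ^ i) w ≠ 1) :
    ∃ a : W ⋊[φ] X, orderOf a = orderOf g * r := by
  refine ⟨inl w * inr g, ?_⟩
  have hg : (inl w * inr g : W ⋊[φ] X).right = g := by simp
  rcases orderOf_cases hr hexp (inl w * inr g) with ⟨h1, -⟩ | ⟨-, h1⟩
  · rw [hg, (pow_left_formula w g _).1] at h1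
    exact absurd h1 h
  · rwa [hg] at h1

theorem exists_orderOf_image (g : X) : ∃ a : W ⋊[φ] X, orderOf a = orderOf g :=
  ⟨inr g, orderOf_injective _ inr_injective g⟩

/-- The normal subgroup `W`. -/
theorem range_inl_normal : (inl : W →* W ⋊[φ] X).range.Normal := by
  rw [range_inl_eq_ker_rightHom]
  infer_instance

end Cfsg.Agent.IsoPGL
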