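import Cfsg.Agent.Lib.IsoPGL.Module
import Cfsg.Agent.Lib.IsoPGL.Semidirect
import Cfsg.Agent.Lib.IsoPGL.Spectrum
import Cfsg.Agent.Lib.PSL2.Elements
import Cfsg.Agent.Lib.PSL2.Conjugacy

/-!
For a prime `p ≥ 5`, a group with a nontrivial solvable normal subgroup and the element orders of
`PGL_2(p)`: a module over the field with two elements extended by `PSL_2(p)`.
-/

set_option autoImplicit false
set_option linter.unusedSectionVars false

open Matrix Cfsg.Agent.PSL2 SemidirectProduct

namespace Cfsg.Agent.IsoPGL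

variable {p : ℕ} [Fact p.Prime] {n : ZMod p}

/-- The module written multiplicatively. -/
abbrev Wp (p : ℕ) [NeZero p] (n : ZMod p) : Type := Multiplicative (hmod p n)

/-- The action of the special linear group on the module. -/
def actSL (p : ℕ) [Fact p.Prime] (n : ZMod p) : SL2 (ZMod p) →* MulAut (Wp p n) where
  toFun g := AddEquiv.toMultiplicative
    { toFun := fun f => ⟨fun J => f.1 ((SpecialLinearGroup.toGL g)⁻¹ • J), comp_smul_mem f.2 _⟩
      invFun := fun f => ⟨fun J => f.1 (SpecialLinearGroup.toGL g • J), comp_smul_mem f.2 _⟩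
      left_inv := fun f => Subtype.ext (funext fun J => by simp)
      right_inv := fun f => Subtype.ext (funext fun J => by simp)
      map_add' := fun f f' => rfl }
  map_one' := by
    refine MulEquiv.ext fun f => Multiplicative.toAdd.injective (Subtype.ext (funext fun J => ?_))
    show (Multiplicative.toAdd f).1 ((SpecialLinearGroup.toGL (1 : SL2 (ZMod p)))⁻¹ • J) =
      (Multiplicative.toAdd f).1 J
    rw [map_one, inv_one, one_smul]
  map_mul' g h := by
    refine MulEquiv.ext fun f => Multiplicative.toAdd.injective (Subtype.ext (funext fun J => ?_))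
    show (Multiplicative.toAdd f).1 ((SpecialLinearGroup.toGL (g * h))⁻¹ • J) =
      (Multiplicative.toAdd f).1
        ((SpecialLinearGroup.toGL h)⁻¹ • (SpecialLinearGroup.toGL g)⁻¹ • J)
    rw [map_mul, _root_.mul_inv_rev, mul_smul]

theorem smul_of_sign {g : SL2 (ZMod p)} (h : g = 1 ∨ g = -1) (J : Om p n) :
    SpecialLinearGroup.toGL g • J = J := by
  rcases h with rfl | rfl
  · rw [map_one, one_smul]
  · have hinv : (-1 : SL2 (ZMod p))⁻¹ = -1 := inv_eq_of_mul_eq_one_right (by simp)
    apply Subtype.ext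
    rw [smul_val, ← map_inv, hinv]
    show ((-1 : SL2 (ZMod p)) : M2 p) * J.1 * ((-1 : SL2 (ZMod p)) : M2 p) = J.1
    simp

theorem actSL_apply (g : SL2 (ZMod p)) (w : Wp p n) (J : Om p n) :
    (Multiplicative.toAdd (actSL p n g w)).1 J =
      (Multiplicative.toAdd w).1 ((SpecialLinearGroup.toGL g)⁻¹ • J) := rfl

theorem actSL_center {g : SL2 (ZMod p)} (hg : g ∈ Subgroup.center (SL2 (ZMod p))) :
    g ∈ (actSL p n).ker := by
  have hor : g = 1 ∨ g = -1 := mem_center_iff'.1 hg
  have hJ : ∀ J : Om p n, (SpecialLinearGroup.toGL g)⁻¹ • J = J := fun J => by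
    conv_lhs => rw [← smul_of_sign (n := n) hor J]
    exact inv_smul_smul (SpecialLinearGroup.toGL g) J
  rw [MonoidHom.mem_ker]
  apply MulEquiv.ext
  intro f
  apply Multiplicative.toAdd.injective
  apply Subtype.ext
  funext J
  rw [actSL_apply, hJ, MulAut.one_apply]

/-- The action of `PSL_2(p)` on the module. -/
noncomputable def act (p : ℕ) [Fact p.Prime] (n : ZMod p) : PSL2 (ZMod p) →* MulAut (Wp p n) :=
  QuotientGroup.lift (Subgroup.center (SL2 (ZMod p))) (actSL p n) fun _ hg => actSL_center hg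

theorem act_apply (L : SL2 (ZMod p)) (w : Wp p n) (J : Om p n) :
    (Multiplicative.toAdd (act p n (QuotientGroup.mk L) w)).1 J =
      (Multiplicative.toAdd w).1 ((SpecialLinearGroup.toGL L)⁻¹ • J) := rfl

theorem exp_two (w : Wp p n) : w ^ 2 = 1 := by
  apply Multiplicative.toAdd.injective
  rw [toAdd_pow, toAdd_one]
  exact Subtype.ext (funext fun J => (two_nsmul _).trans (CharTwo.add_self_eq_zero _))

/-- Elements of order `p` fix only the trivial vector. -/
theorem eq_one_of_fixed (hp2 : p ≠ 2) {x : PSL2 (ZMod p)} (hx : x ≠ 1) (hxp : x ^ p = 1)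
    {w : Wp p n} (hw : act p n x w = w) : w = 1 := by
  obtain ⟨L0, rfl⟩ := QuotientGroup.mk_surjective x
  obtain ⟨L, hL, hLx⟩ : ∃ L : SL2 (ZMod p), L ^ p = 1 ∧
      (QuotientGroup.mk L : PSL2 (ZMod p)) = QuotientGroup.mk L0 := by
    rw [← QuotientGroup.mk_pow] at hxp
    rcases PSL2.mk_eq_one_iff.1 hxp with h | h
    · exact ⟨L0, h, rfl⟩
    · exact ⟨-L0, by rw [Odd.neg_pow ((Fact.out : p.Prime).odd_of_ne_two hp2), h, neg_neg], mk_neg L0⟩
  rw [← hLx] at hx hw
  set N : M2 p := L.1 - 1
  have hN0 : N ≠ 0 := fun h => hx (PSL2.mk_eq_one_iff.2 (Or.inl (Subtype.ext (sub_eq_zero.1 h))))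
  have hNp : N ^ p = 0 := by
    show (L.1 - 1) ^ p = 0
    rw [sub_pow_char_of_commute p (Commute.one_right _), one_pow,
      ← Matrix.SpecialLinearGroup.coe_pow, hL, Matrix.SpecialLinearGroup.coe_one, sub_self]
  have hdet : N.det = 0 := by
    have h := congrArg Matrix.det hNp
    rw [Matrix.det_pow, Matrix.det_zero] at h
    exact eq_zero_of_pow_eq_zero h
  have hN2 : N * N = 0 := by
    have hd := PSL2.det_eq L
    have ht : tr L = 2 := by
      rw [Matrix.det_fin_two] at hdet
      simp [N] at hdet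
      simp only [tr]
      linear_combination -hdet + hd
    show (L.1 - 1) * (L.1 - 1) = 0
    rw [sub_mul, mul_sub, coe_sq, ht]
    simp [two_smul]
    abel
  have hpow : ∀ k : ℕ, SpecialLinearGroup.toGL L ^ k = unip N hN2 (k : ZMod p) := by
    intro k
    induction k with
    | zero => rw [pow_zero]; exact Units.ext (by simp [unip])
    | succ k ih =>
      rw [pow_succ, ih]
      refine Units.ext ?_
      show (1 + (k : ZMod p) • N) * L.1 = 1 + ((k + 1 : ℕ) : ZMod p) • N
      rw [show L.1 = 1 + N by simp [N], add_mul, mul_add, mul_add, smul_mul_assoc, smul_mul_assoc,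
        hN2, smul_zero, one_mul, mul_one, one_mul, Nat.cast_succ, add_smul, one_smul]
      abel
  have hfix : ∀ J, (Multiplicative.toAdd w).1 (SpecialLinearGroup.toGL L • J) =
      (Multiplicative.toAdd w).1 J := by
    intro J
    conv_lhs => rw [← hw]
    rw [act_apply, inv_smul_smul]
  have hfixk : ∀ (k : ℕ) J, (Multiplicative.toAdd w).1 (SpecialLinearGroup.toGL L ^ k • J) =
      (Multiplicative.toAdd w).1 J := by
    intro k
    induction k with
    | zero => simp
    | succ k ih => intro J; rw [pow_succ', mul_smul, hfix, ih]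
  apply Multiplicative.toAdd.injective
  refine Subtype.ext (eq_zero_of_fixed hp2 (Multiplicative.toAdd w).2 hN2 hN0 fun J t => ?_)
  rw [← ZMod.natCast_zmod_val t, ← hpow, hfixk]

/-- A vector with nonzero sum over the orbit of a torus element gives an element of twice the order. -/
theorem exists_double {L : SL2 (ZMod p)} {o : ℕ} (ho : orderOf (QuotientGroup.mk L : PSL2 (ZMod p)) = o)
    {f : Om p n → ZMod 2} (hf : f ∈ hmod p n) {J : Om p n}
    (hsum : ∑ i ∈ Finset.range o, f (SpecialLinearGroup.toGL L ^ i • J) ≠ 0) :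
    ∃ a : Wp p n ⋊[act p n] PSL2 (ZMod p), orderOf a = o * 2 := by
  set x : PSL2 (ZMod p) := (QuotientGroup.mk L)⁻¹
  have hx : orderOf x = o := by rw [orderOf_inv, ho]
  have hne : ∏ i ∈ Finset.range (orderOf x), act p n (x ^ i) (Multiplicative.ofAdd ⟨f, hf⟩) ≠ 1 := by
    intro h
    apply hsum
    have h' := congrArg (fun w : Wp p n => (Multiplicative.toAdd w).1 J) h
    simp only [toAdd_prod, toAdd_one, AddSubmonoidClass.coe_finsetSum, Finset.sum_apply, hx] at h'
    refine Eq.trans (Finset.sum_congr rfl fun i _ => ?_) h'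
    rw [show x ^ i = QuotientGroup.mk ((L⁻¹) ^ i) from by rw [QuotientGroup.mk_pow, QuotientGroup.mk_inv],
      act_apply, map_pow, map_inv, inv_pow, inv_inv]
    rfl
  obtain ⟨a, ha⟩ := exists_orderOf_mul Nat.prime_two (fun w : Wp p n => exp_two w) hne
  exact ⟨a, by rw [ha, hx]⟩

theorem two_ne (hp : 5 ≤ p) : (2 : ZMod p) ≠ 0 := by
  intro h
  have h' : ((2 : ℕ) : ZMod p) = 0 := by exact_mod_cast h
  rw [ZMod.natCast_eq_zero_iff] at h'
  exact absurd (Nat.le_of_dvd two_pos h') (by omega)

theorem not_square_mul {c d : ZMod p} (hc : c ≠ 0) (h : ¬ IsSquare d) : ¬ IsSquare (c * c * d) := by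
  rintro ⟨s, hs⟩
  exact h ⟨s / c, by field_simp; linear_combination hs⟩

theorem diagS_val (u : (ZMod p)ˣ) :
    (GLOrder.diagS (ZMod p) u).1 = !![(u : ZMod p), 0; 0, ((u⁻¹ : (ZMod p)ˣ) : ZMod p)] := rfl

/-- Doubling of the split torus. -/
theorem exists_split_double (hp : 5 ≤ p) (hn : ¬ IsSquare n) :
    ∃ a : Wp p n ⋊[act p n] PSL2 (ZMod p), orderOf a = p - 1 := by
  have hp2 : p ≠ 2 := by omega
  have h2 := two_ne hp
  obtain ⟨s, hs⟩ := IsCyclic.exists_ofOrder_eq_natCard (α := (ZMod p)ˣ)
  rw [Nat.card_units, Nat.card_zmod] at hs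
  have heven : 2 ∣ p - 1 := by
    obtain ⟨m, hm⟩ := (Fact.out : p.Prime).odd_of_ne_two hp2
    exact ⟨m, by omega⟩
  obtain ⟨o, ho⟩ := heven
  set L : SL2 (ZMod p) := GLOrder.diagS (ZMod p) s
  have hsq : ∀ i, i < o → ((s ^ i : (ZMod p)ˣ) : ZMod p) ^ 2 = 1 → i = 0 := by
    intro i hi h
    have h1 : s ^ (i * 2) = 1 := Units.ext (by rw [pow_mul, Units.val_pow_eq_pow_val, h, Units.val_one])
    by_contra hi0
    have := Nat.le_of_dvd (by omega) (hs ▸ orderOf_dvd_of_pow_eq_one h1)
    omega
  have hord : orderOf (QuotientGroup.mk L : PSL2 (ZMod p)) = o := by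
    rw [orderOf_eq_iff (by omega)]
    refine ⟨?_, fun m hm hm0 h => ?_⟩
    · rw [← QuotientGroup.mk_pow, PSL2.mk_eq_one_iff, ← map_pow]
      have h1 : ((s ^ o : (ZMod p)ˣ) : ZMod p) * ((s ^ o : (ZMod p)ˣ) : ZMod p) = 1 := by
        rw [← Units.val_mul, ← pow_add, show o + o = p - 1 by omega, ← hs, pow_orderOf_eq_one, Units.val_one]
      rcases mul_self_eq_one_iff.1 h1 with e | e
      · left
        rw [show s ^ o = 1 from Units.ext e, map_one]
      · right
        rw [show s ^ o = -1 from Units.ext e]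
        apply Subtype.ext
        ext i j
        rw [diagS_val, Matrix.SpecialLinearGroup.coe_neg, Matrix.SpecialLinearGroup.coe_one]
        fin_cases i <;> fin_cases j <;> simp
    · rw [← QuotientGroup.mk_pow, PSL2.mk_eq_one_iff, ← map_pow] at h
      have hval : ((s ^ m : (ZMod p)ˣ) : ZMod p) = 1 ∨ ((s ^ m : (ZMod p)ˣ) : ZMod p) = -1 := by
        rcases h with h | h
        · left
          have h' := congrFun (congrFun (congrArg Subtype.val h) 0) 0
          rw [diagS_val] at h'
          simpa using h'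
        · right
          have h' := congrFun (congrFun (congrArg Subtype.val h) 0) 0
          rw [diagS_val] at h'
          simpa using h'
      have := hsq m hm (by rcases hval with e | e <;> rw [e] <;> ring)
      omega
  obtain ⟨k, hk0, hk⟩ := exists_nonsquare_shift hp (a := n) (fun h => hn (h ▸ IsSquare.zero))
  have hn1 : 1 - n ≠ 0 := fun h => hn ⟨1, by linear_combination -h⟩
  have hn0 : n ≠ 0 := fun h => hn (h ▸ IsSquare.zero)
  set α := k * (1 + n) / (1 - n)
  set r := α - k with hr
  have hr' : r = 2 * k * n / (1 - n) := by rw [hr]; show k * (1 + n) / (1 - n) - k = _; field_simp; ring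
  have hr0 : r ≠ 0 := by rw [hr']; exact div_ne_zero (mul_ne_zero (mul_ne_zero h2 hk0) hn0) hn1
  let E : M2 p := !![1, -(2 * r); 0, -1]
  have hB : ∀ B : ZMod p, B = 2 * k ∨ B = -(2 * k) → ¬ IsSquare (B * B - 4 * n * 1) := by
    intro B hB
    rw [show B * B - 4 * n * 1 = 2 * 2 * (k * k - n) by rcases hB with rfl | rfl <;> ring]
    exact not_square_mul h2 hk
  have hf : (plane E (2 * k) + plane E (-(2 * k)) : Om p n → ZMod 2) ∈ hmod p n :=
    plane_pair_mem (p := p) hn hp2 (E := E) (B := 2 * k) (B' := -(2 * k)) (by simp [E])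
    (by simp [E]) (hB _ (Or.inl rfl)) (hB _ (Or.inr rfl))
  let J : Om p n := ⟨!![α, n - α * α; 1, -α], by
    refine ⟨by simp [trace_fin_two], ?_⟩
    ext i j
    fin_cases i <;> fin_cases j <;> simp [Matrix.mul_apply, Fin.sum_univ_two] <;> ring⟩
  obtain ⟨a, ha⟩ := exists_double (L := L) hord hf (J := J) (by
    have htr : ∀ i, ((SpecialLinearGroup.toGL L ^ i • J).1 * E).trace =
        2 * α - 2 * r * ((((s ^ i : (ZMod p)ˣ) : ZMod p))⁻¹) ^ 2 := by
      intro i
      rw [smul_val, ← map_pow, ← map_inv, ← map_pow, ← map_inv]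
      show ((GLOrder.diagS (ZMod p) (s ^ i)).1 * J.1 * (GLOrder.diagS (ZMod p) (s ^ i)⁻¹).1 * E).trace = _
      rw [diagS_val, diagS_val]
      simp [J, E, trace_fin_two, Matrix.mul_apply, Fin.sum_univ_two]
      field_simp
      ring
    have hterm : ∀ i ∈ Finset.range o, (plane E (2 * k) + plane E (-(2 * k)) : Om p n → ZMod 2) (SpecialLinearGroup.toGL L ^ i • J) =
        if i = 0 then 1 else 0 := by
      intro i hi
      have hi' := Finset.mem_range.1 hi
      simp only [Pi.add_apply, plane, htr]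
      set l := (((s ^ i : (ZMod p)ˣ) : ZMod p))⁻¹ with hl
      have hsecond : 2 * α - 2 * r * l ^ 2 ≠ -(2 * k) := by
        intro h
        apply hn
        have hm : r * l ^ 2 = α + k := mul_left_cancel₀ h2 (by linear_combination -h)
        have hm2 : n * l ^ 2 = 1 := by
          have e2 : n * (α + k) = r := by
            rw [hr]; show n * (k * (1 + n) / (1 - n) + k) = k * (1 + n) / (1 - n) - k
            field_simp; ring
          exact mul_left_cancel₀ hr0 (by linear_combination n * hm + e2)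
        refine ⟨l⁻¹, ?_⟩
        have hl0 : l ≠ 0 := by rw [hl]; exact inv_ne_zero (Units.ne_zero _)
        field_simp
        linear_combination hm2
      rw [if_neg hsecond, add_zero]
      refine if_congr ⟨fun h => hsq i hi' ?_, fun h => ?_⟩ rfl rfl
      · have hm : r * l ^ 2 = r * 1 := mul_left_cancel₀ h2 (by rw [hr]; linear_combination -h + 2 * l ^ 2 * 0)
        have := mul_left_cancel₀ hr0 hm
        rwa [hl, inv_pow, inv_eq_one] at this
      · subst h; simp [hl, hr]; ring
    rw [Finset.sum_congr rfl hterm, Finset.sum_ite_eq' (Finset.range o) 0 (fun _ => (1 : ZMod 2)),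
      if_pos (Finset.mem_range.2 (by omega))]
    exact one_ne_zero)
  exact ⟨a, by rw [ha]; omega⟩

/-- The standard point and a function separating the orbit of a point under its torus. -/
theorem exists_separating (hp : 5 ≤ p) (hn : ¬ IsSquare n) (J0 : Om p n) :
    ∃ f ∈ hmod p n, ∃ J : Om p n, ∀ L : SL2 (ZMod p), L.1 * J0.1 = J0.1 * L.1 →
      f (SpecialLinearGroup.toGL L • J) = if L = 1 ∨ L = -1 then 1 else 0 := by
  have hp2 : p ≠ 2 := by omega
  have h2 := two_ne hp
  have hn0 : n ≠ 0 := fun h => hn (h ▸ IsSquare.zero)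
  obtain ⟨hJ1, hJ2⟩ := J0.entries
  have hγ : J0.1 1 0 ≠ 0 := fun h => hn ⟨J0.1 0 0, by linear_combination -hJ2 + J0.1 0 1 * h⟩
  let Pi : (M2 p)ˣ := GeneralLinearGroup.mkOfDetNeZero !![1, J0.1 0 0; 0, J0.1 1 0]
    (by simp [Matrix.det_fin_two, hγ])
  let S : M2 p := !![0, n; 1, 0]
  have hconj : J0.1 * (Pi : M2 p) = (Pi : M2 p) * S := by
    show J0.1 * !![1, J0.1 0 0; 0, J0.1 1 0] = !![1, J0.1 0 0; 0, J0.1 1 0] * S
    ext i j
    fin_cases i <;> fin_cases j <;> simp [S, Matrix.mul_apply, Fin.sum_univ_two, hJ1]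
    · linear_combination hJ2
    · ring
  obtain ⟨t, ht0, ht⟩ := exists_nonsquare_shift hp (a := (1 : ZMod p)) one_ne_zero
  have hb : t * t - 1 ≠ 0 := fun h => ht (h ▸ IsSquare.zero)
  obtain ⟨k, hk0, hk⟩ := exists_nonsquare_shift hp hb
  set γ := t + k with hγd
  have hval : ¬ IsSquare (γ * γ - 2 * t * γ + 1) := by
    rw [show γ * γ - 2 * t * γ + 1 = k * k - (t * t - 1) by rw [hγd]; ring]
    exact hk
  have hγ0 : γ ≠ 0 := fun h => hval ⟨1, by rw [h]; ring⟩
  set β := 2 * n * t - n * γ with hβd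
  have hβ0 : β ≠ 0 := by
    intro h
    refine hval ⟨1, ?_⟩
    have : γ = 2 * t := mul_left_cancel₀ hn0 (by linear_combination -h + hβd)
    rw [this]; ring
  obtain ⟨α, hα⟩ : IsSquare (n * (γ * γ - 2 * t * γ + 1)) := by
    rw [← quadraticChar_one_iff_isSquare (mul_ne_zero hn0 (fun h => hval (by rw [h]; exact IsSquare.zero))), map_mul,
      quadraticChar_neg_one_iff_not_isSquare.2 hn, quadraticChar_neg_one_iff_not_isSquare.2 hval]
    norm_num
  have hα0 : α ≠ 0 := fun h => hval ⟨0, by
    rw [h, mul_zero] at hα; rw [mul_zero]; exact (mul_eq_zero.1 hα).resolve_left hn0⟩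
  have hαβ : α * α + β * γ = n := by rw [← hα, hβd]; ring
  set a := β / (n * γ) with had
  have ha0 : a ≠ 0 := div_ne_zero hβ0 (mul_ne_zero hn0 hγ0)
  have haa : a * a ≠ 1 := by
    intro h
    rcases mul_self_eq_one_iff.1 h with e | e <;> rw [had, div_eq_iff (mul_ne_zero hn0 hγ0)] at e
    · exact hk0 (mul_left_cancel₀ (mul_ne_zero h2 hn0) (by
        rw [mul_zero]; linear_combination -e + hβd + (2 * n) * hγd))
    · exact ht0 (mul_left_cancel₀ (mul_ne_zero h2 hn0) (by
        rw [mul_zero]; linear_combination e - hβd))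
  let Jz : Om p n := ⟨!![α, β; γ, -α], by
    refine ⟨by simp [trace_fin_two], ?_⟩
    ext i j
    fin_cases i <;> fin_cases j <;> simp [Matrix.mul_apply, Fin.sum_univ_two] <;>
      first | linear_combination hαβ | ring⟩
  let J1 : Om p n := ⟨!![0, a * n; a⁻¹, 0], by
    refine ⟨by simp [trace_fin_two], ?_⟩
    ext i j
    fin_cases i <;> fin_cases j <;> simp [Matrix.mul_apply, Fin.sum_univ_two] <;> field_simp⟩
  set B := β + n * γ with hBd
  have hB : ¬ IsSquare (B * B - 4 * n * n) := by
    rw [show B * B - 4 * n * n = (2 * n) * (2 * n) * (t * t - 1) by rw [hBd, hβd]; ring]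
    exact not_square_mul (mul_ne_zero h2 hn0) ht
  refine ⟨fun J => plane J1.1 B (Pi⁻¹ • J), comp_smul_mem (plane_mem hn hp2 J1 hB) _, Pi • Jz, fun L hL => ?_⟩
  set h : (M2 p)ˣ := Pi⁻¹ * SpecialLinearGroup.toGL L * Pi with hh
  show plane J1.1 B (Pi⁻¹ • SpecialLinearGroup.toGL L • Pi • Jz) = _
  rw [smul_smul, smul_smul, ← hh]
  have hhS : (h : M2 p) * S = S * (h : M2 p) := by
    have e : S = ((Pi⁻¹ : (M2 p)ˣ) : M2 p) * J0.1 * (Pi : M2 p) := by
      rw [mul_assoc, hconj, ← mul_assoc, Units.inv_mul, one_mul]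
    rw [e, hh, Units.val_mul, Units.val_mul]
    show ((Pi⁻¹ : (M2 p)ˣ) : M2 p) * L.1 * (Pi : M2 p) * (((Pi⁻¹ : (M2 p)ˣ) : M2 p) * J0.1 * (Pi : M2 p)) =
      ((Pi⁻¹ : (M2 p)ˣ) : M2 p) * J0.1 * (Pi : M2 p) * (((Pi⁻¹ : (M2 p)ˣ) : M2 p) * L.1 * (Pi : M2 p))
    simp only [mul_assoc, Units.mul_inv_cancel_left]
    rw [← mul_assoc L.1, hL, mul_assoc]
  have hdet : (h : M2 p).det = 1 := by
    rw [hh, Units.val_mul, Units.val_mul, Matrix.det_units_conj']
    exact L.2
  have hform : (h : M2 p) 0 0 = (h : M2 p) 1 1 ∧ (h : M2 p) 0 1 = n * (h : M2 p) 1 0 := by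
    have e00 := congrFun (congrFun hhS 0) 0
    have e10 := congrFun (congrFun hhS 1) 0
    simp [S, Matrix.mul_apply, Fin.sum_univ_two] at e00 e10
    exact ⟨e10.symm, e00⟩
  rw [Matrix.det_fin_two, hform.2, ← hform.1] at hdet
  have hS1 : ((h • Jz).1 * S).trace = B := by
    rw [smul_val, mul_assoc, show ((h⁻¹ : (M2 p)ˣ) : M2 p) * S = S * ((h⁻¹ : (M2 p)ˣ) : M2 p) by
      rw [Units.eq_mul_inv_iff_mul_eq, mul_assoc, ← hhS, Units.inv_mul_cancel_left], ← mul_assoc,
      Matrix.trace_mul_comm, ← mul_assoc, ← mul_assoc, Units.inv_mul, one_mul]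
    simp [Jz, S, hBd, trace_fin_two, Matrix.mul_apply, Fin.sum_univ_two]
    ring
  obtain ⟨hK1, hK2⟩ := (h • Jz).entries
  have hmul : (h : M2 p) * Jz.1 = (h • Jz).1 * (h : M2 p) := by
    rw [smul_val, mul_assoc _ ((h⁻¹ : (M2 p)ˣ) : M2 p), Units.inv_mul, mul_one]
  have h00 := congrFun (congrFun hmul 0) 0
  have h01 := congrFun (congrFun hmul 0) 1
  simp [Jz, Matrix.mul_apply, Fin.sum_univ_two, hform.2, ← hform.1] at h00 h01
  rw [trace_fin_two] at hS1
  simp [S, Matrix.mul_apply, Fin.sum_univ_two] at hS1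
  set c0 := (h : M2 p) 0 0
  set c1 := (h : M2 p) 1 0
  set α' := (h • Jz).1 0 0
  set β' := (h • Jz).1 0 1
  set γ' := (h • Jz).1 1 0
  have hLh : (L = 1 ∨ L = -1) ↔ c1 = 0 := by
    constructor
    · intro hL1
      have : (h : M2 p) = 1 ∨ (h : M2 p) = -1 := by
        rw [hh, Units.val_mul, Units.val_mul]
        rcases hL1 with rfl | rfl
        · left; simp
        · right
          show ((Pi⁻¹ : (M2 p)ˣ) : M2 p) * ((-1 : SL2 (ZMod p)) : M2 p) * (Pi : M2 p) = -1
          simp
      rcases this with e | e <;> simp [c1, e]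
    · intro hc1
      have hsc : (h : M2 p) = c0 • (1 : M2 p) := by
        ext i j
        have e10 : (h : M2 p) 1 0 = 0 := hc1
        have e01 : (h : M2 p) 0 1 = 0 := by rw [hform.2, show c1 = 0 from hc1, mul_zero]
        fin_cases i <;> fin_cases j <;> simp [c0, ← hform.1, e10, e01]
      have hLsc : L.1 = c0 • (1 : M2 p) := by
        have e : L.1 = (Pi : M2 p) * (h : M2 p) * ((Pi⁻¹ : (M2 p)ˣ) : M2 p) := by
          rw [hh, Units.val_mul, Units.val_mul]
          simp only [mul_assoc, Units.mul_inv_cancel_left]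
          rw [Units.mul_inv, mul_one]
          rfl
        rw [e, hsc]; simp
      rw [hc1] at hdet
      rcases mul_self_eq_one_iff.1 (show c0 * c0 = 1 by linear_combination hdet) with e | e
      · left; exact Subtype.ext (by rw [hLsc, e]; simp)
      · right; exact Subtype.ext (by rw [hLsc, e]; simp)
  simp only [plane]
  refine if_congr ?_ rfl rfl
  rw [hLh]
  constructor
  · intro hplane
    rw [trace_fin_two] at hplane
    simp [J1, Matrix.mul_apply, Fin.sum_univ_two] at hplane
    have hβγ : β' = β ∧ γ' = γ := by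
      have e1 : β' + n * γ' = B := by linear_combination hS1
      have e2 : β' + a * a * (n * γ') = a * B := by
        have : a * (β' * a⁻¹ + γ' * (a * n)) = a * B := by rw [hplane]
        field_simp at this
        linear_combination this
      have e3 : (a * a - 1) * (n * γ') = (a * a - 1) * (n * γ) := by
        have e5 : a * B = β + a * a * (n * γ) := by
          rw [hBd, had]; field_simp; ring
        linear_combination e2 - e1 + e5 - hBd
      have e4 := mul_left_cancel₀ (sub_ne_zero.2 haa) e3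
      exact ⟨by linear_combination e1 - e4 + hBd, mul_left_cancel₀ hn0 e4⟩
    simp only [hβγ.1, hβγ.2] at h00 h01 hK2
    have hα' : α' = α ∨ α' = -α := mul_self_eq_mul_self_iff.1 (by linear_combination hK2 - hαβ)
    rcases hα' with e | e <;> rw [e] at h00 h01
    · have : c1 * (2 * n * α) = 0 := by linear_combination -h01
      exact (mul_eq_zero.1 this).resolve_right (mul_ne_zero (mul_ne_zero h2 hn0) hα0)
    · by_contra hc1
      have e1 : c1 * (β - n * γ) = 2 * α * c0 := by linear_combination -h00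
      apply hB
      refine ⟨2 * α / c1, ?_⟩
      field_simp
      linear_combination (c1 * (β - n * γ) + 2 * α * c0) * e1 + 4 * α * α * hdet +
        4 * n * c1 ^ 2 * hαβ
  · intro hc1
    rw [hc1] at h00 h01 hdet
    have hc0 : c0 ≠ 0 := fun e => by rw [e] at hdet; simp at hdet
    have hα' : α' = α := mul_right_cancel₀ hc0 (by linear_combination -h00)
    have hβ' : β' = β := mul_right_cancel₀ hc0 (by linear_combination -h01)
    have hγ' : γ' = γ := mul_left_cancel₀ hn0 (by rw [hβ'] at hS1; linear_combination hS1 + hBd)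
    rw [trace_fin_two]
    simp [J1, Matrix.mul_apply, Fin.sum_univ_two]
    show β' * a⁻¹ + γ' * (a * n) = B
    rw [hβ', hγ', hBd, had]
    field_simp
    ring

/-- Doubling of the nonsplit torus. -/
theorem exists_nonsplit_double (hp : 5 ≤ p) : ∃ n : ZMod p, ¬ IsSquare n ∧
    ∃ a : Wp p n ⋊[act p n] PSL2 (ZMod p), orderOf a = p + 1 := by
  have hp2 : p ≠ 2 := by omega
  have h2 := two_ne hp
  obtain ⟨m, hm⟩ := (Fact.out : p.Prime).odd_of_ne_two hp2
  obtain ⟨x, hx⟩ := exists_psl_orderOf_torus (F := ZMod p) (m := m + 1) (Or.inr (by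
    rw [Nat.card_zmod, Nat.gcd_eq_left (⟨m, by omega⟩ : 2 ∣ p - 1)]
    exact ⟨1, by omega⟩))
  obtain ⟨L, rfl⟩ := QuotientGroup.mk_surjective x
  have hone : ∀ k : ℕ, L ^ k = 1 ∨ L ^ k = -1 → m + 1 ∣ k := fun k hk => by
    rw [← hx]; exact orderOf_dvd_of_pow_eq_one (by rw [← QuotientGroup.mk_pow, PSL2.mk_eq_one_iff]; exact hk)
  set n : ZMod p := tr L * tr L / (2 * 2) - 1 with hnd
  have hn : ¬ IsSquare n := by
    rintro ⟨d, hd⟩
    set s := tr L / 2 + d
    set s' := tr L / 2 - d
    have hss : s * s' = 1 := by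
      show (tr L / 2 + d) * (tr L / 2 - d) = 1
      rw [hnd] at hd
      field_simp at hd ⊢
      linear_combination hd
    have hs0 : s ≠ 0 := left_ne_zero_of_mul_eq_one hss
    have hsum : s + s' = tr L := by
      show tr L / 2 + d + (tr L / 2 - d) = tr L
      field_simp; ring
    by_cases hd0 : d = 0
    · have hs1 : s * s = 1 := by simpa [s, s', hd0] using hss
      have hLL : (L.1 - algebraMap (ZMod p) _ s) ^ 2 = 0 := by
        have e : tr L = 2 * s := by simp only [s, hd0, add_zero]; field_simp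
        rw [pow_two, sub_mul, mul_sub, mul_sub, coe_sq, e]
        simp [Algebra.algebraMap_eq_smul_one, smul_smul, hs1]
        module
      have hp0 : (L.1 - algebraMap (ZMod p) _ s) ^ p = 0 :=
        pow_eq_zero_of_le (by omega) hLL
      rw [sub_pow_char_of_commute p (Algebra.commute_algebraMap_right _ _), ← map_pow, ZMod.pow_card,
        sub_eq_zero] at hp0
      have h := Nat.le_of_dvd (by omega) (hone (p * 2) (Or.inl (by
        rw [pow_mul]
        apply Subtype.ext
        rw [Matrix.SpecialLinearGroup.coe_pow, Matrix.SpecialLinearGroup.coe_pow, hp0, pow_two, ← map_mul, hs1,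
          map_one, Matrix.SpecialLinearGroup.coe_one])))
      have h' : (m + 1).Coprime p := (Nat.coprime_comm.1 ((Fact.out : p.Prime).coprime_iff_not_dvd.2
        (fun e => by have := Nat.le_of_dvd (by omega) e; omega)))
      have := Nat.le_of_dvd two_pos (h'.dvd_of_dvd_mul_left (hone (p * 2) (Or.inl (by
        rw [pow_mul]
        apply Subtype.ext
        rw [Matrix.SpecialLinearGroup.coe_pow, Matrix.SpecialLinearGroup.coe_pow, hp0, pow_two, ← map_mul, hs1,
          map_one, Matrix.SpecialLinearGroup.coe_one]))))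
      omega
    · have hne : s ≠ s' := fun e => hd0 (by
        have : 2 * d = 0 := by simp only [s, s'] at e; linear_combination e
        exact (mul_eq_zero.1 this).resolve_left h2)
      clear_value s s'
      open Polynomial in
      have hdiv : (Polynomial.X - Polynomial.C s) * (Polynomial.X - Polynomial.C s') ∣
          (Polynomial.X ^ p - Polynomial.X : Polynomial (ZMod p)) := by
        apply IsCoprime.mul_dvd
        · exact Polynomial.isCoprime_X_sub_C_of_isUnit_sub (IsUnit.mk0 _ (sub_ne_zero.2 hne))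
        · rw [Polynomial.dvd_iff_isRoot]; simp [ZMod.pow_card]
        · rw [Polynomial.dvd_iff_isRoot]; simp [ZMod.pow_card]
      have hfac : ((Polynomial.X - Polynomial.C s) * (Polynomial.X - Polynomial.C s') : Polynomial (ZMod p)) =
          Polynomial.X ^ 2 - Polynomial.C (tr L) * Polynomial.X + 1 := by
        rw [← hsum, Polynomial.C_add, ← Polynomial.C_1, ← hss, Polynomial.C_mul]; ring
      obtain ⟨q, hq⟩ := hdiv
      have h0 : Polynomial.aeval L.1 (Polynomial.X ^ p - Polynomial.X : Polynomial (ZMod p)) = 0 := by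
        rw [hq, map_mul, hfac, aeval_char, zero_mul]
      have h3 : L ^ p = L := Subtype.ext (by simpa [sub_eq_zero] using h0)
      have h4 : L ^ (p - 1) = 1 := by
        have : L ^ (p - 1) * L = L := by rw [← pow_succ, show p - 1 + 1 = p by omega, h3]
        simpa using this
      have hm' := hone m (by
        have h5 : L ^ m * L ^ m = 1 := by rw [← pow_add, show m + m = p - 1 by omega, h4]
        exact mem_center_iff'.1 (mem_center_of_mul_self h2 h5))
      have := Nat.le_of_dvd (by omega) hm'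
      omega
  refine ⟨n, hn, ?_⟩
  let J0 : Om p n := ⟨L.1 - (tr L / 2) • (1 : M2 p), by
    refine ⟨?_, ?_⟩
    · rw [Matrix.trace_sub, Matrix.trace_smul, Matrix.trace_one, ← tr_eq_trace, Fintype.card_fin]
      simp only [Nat.cast_ofNat, smul_eq_mul]
      field_simp
      ring
    · rw [sub_mul, mul_sub, mul_sub, coe_sq, smul_mul_assoc, mul_smul_comm, mul_smul_comm, one_mul, mul_one,
        mul_one]
      match_scalars <;> simp [hnd] <;> field_simp <;> ring⟩
  obtain ⟨f, hf, J, hsep⟩ := exists_separating hp hn J0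
  obtain ⟨a, ha⟩ := exists_double (L := L) hx hf (J := J) (by
    have hterm : ∀ i ∈ Finset.range (m + 1), f (SpecialLinearGroup.toGL L ^ i • J) = if i = 0 then 1 else 0 := by
      intro i hi
      have hcomm : (L ^ i).1 * J0.1 = J0.1 * (L ^ i).1 := by
        rw [Matrix.SpecialLinearGroup.coe_pow]
        exact (((Commute.refl L.1).sub_right ((Commute.one_right _).smul_right _)).pow_left i).eq
      rw [← map_pow, hsep (L ^ i) hcomm]
      refine if_congr ⟨fun h => ?_, fun h => by subst h; simp⟩ rfl rfl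
      have := hone i h
      rcases Nat.eq_zero_or_pos i with h0 | h0
      · exact h0
      · have := Nat.le_of_dvd h0 this
        have := Finset.mem_range.1 hi
        omega
    rw [Finset.sum_congr rfl hterm, Finset.sum_ite_eq' (Finset.range (m + 1)) 0 (fun _ => (1 : ZMod 2)),
      if_pos (Finset.mem_range.2 (by omega))]
    exact one_ne_zero)
  exact ⟨a, by rw [ha]; omega⟩

/-- The extension with the element orders of `PGL_2(p)`. -/
theorem exists_prime_model (hp : 5 ≤ p) :
    ∃ (H : Type) (_ : Group H) (_ : Finite H) (K : Subgroup H), K.Normal ∧ K ≠ ⊥ ∧ Group.IsSolvable K ∧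
      Set.range (orderOf : H → ℕ) = {m : ℕ | m ∣ p - 1 ∨ m ∣ p + 1 ∨ m = p} := by
  have hp2 : p ≠ 2 := by omega
  obtain ⟨n, hn, a2, ha2⟩ := exists_nonsplit_double hp
  obtain ⟨a1, ha1⟩ := exists_split_double hp hn
  have hfin : Finite (Wp p n) := inferInstance
  have : Finite (Wp p n ⋊[act p n] PSL2 (ZMod p)) :=
    Finite.of_equiv _ SemidirectProduct.equivProd.symm
  refine ⟨Wp p n ⋊[act p n] PSL2 (ZMod p), inferInstance, inferInstance, inl.range, range_inl_normal, ?_, ?_, ?_⟩
  · intro hbot
    have hne : ∃ a : Wp p n ⋊[act p n] PSL2 (ZMod p), orderOf a = p - 1 := ⟨a1, ha1⟩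
    have hW : ∀ w : Wp p n, w = 1 := fun w => by
      have : (inl w : Wp p n ⋊[act p n] PSL2 (ZMod p)) ∈ (⊥ : Subgroup _) := hbot ▸ ⟨w, rfl⟩
      exact inl_injective ((Subgroup.mem_bot.1 this).trans (map_one _).symm)
    rcases orderOf_cases Nat.prime_two (fun w : Wp p n => exp_two w) a1 with ⟨-, h⟩ | ⟨h, -⟩
    · have hg2 : Nat.gcd 2 (Nat.card (ZMod p) - 1) = 2 := by
        obtain ⟨m, hm⟩ := (Fact.out : p.Prime).odd_of_ne_two hp2
        rw [Nat.card_zmod]; exact Nat.gcd_eq_left ⟨m, by omega⟩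
      have e := psl_orderOf_cases p a1.right
      rw [hg2, Nat.card_zmod, ← h, ha1] at e
      rcases e with e | e | e
      · have := Nat.le_of_dvd (by omega) e; omega
      · have := Nat.le_of_dvd (by omega) e; omega
      · rcases (Nat.dvd_prime Fact.out).1 e with e | e <;> omega
    · exact h (hW _)
  · exact Group.isSolvable_of_comm fun x y => Subtype.ext (by
      obtain ⟨x, u, rfl⟩ := x
      obtain ⟨y, v, rfl⟩ := y
      simp [← map_mul, mul_comm])
  · have hd : ∀ _m : ℕ, 2 ∣ p - 1 ∧ 2 ∣ p + 1 := fun _ => by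
      obtain ⟨m, hm⟩ := (Fact.out : p.Prime).odd_of_ne_two hp2; exact ⟨⟨m, by omega⟩, ⟨m + 1, by omega⟩⟩
    obtain ⟨hd1, hd2⟩ := hd 0
    ext m
    constructor
    · rintro ⟨a, rfl⟩
      have hcases : orderOf a.right = p ∨ orderOf a.right ∣ (p - 1) / 2 ∨ orderOf a.right ∣ (p + 1) / 2 := by
        rcases psl_orderOf_cases p a.right with e | e | e
        · rw [Nat.card_zmod, Nat.gcd_eq_left hd1] at e; exact Or.inr (Or.inl e)
        · rw [Nat.card_zmod, Nat.gcd_eq_left hd1] at e; exact Or.inr (Or.inr e)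
        · rcases (Nat.dvd_prime Fact.out).1 e with e | e
          · rw [e]; exact Or.inr (Or.inl (one_dvd _))
          · exact Or.inl e
      rcases orderOf_cases Nat.prime_two (fun w : Wp p n => exp_two w) a with ⟨-, h⟩ | ⟨hne, h⟩
      · rw [h]
        rcases hcases with e | e | e
        · exact Or.inr (Or.inr e)
        · exact Or.inl (e.trans (Nat.div_dvd_of_dvd hd1))
        · exact Or.inr (Or.inl (e.trans (Nat.div_dvd_of_dvd hd2)))
      · rw [h]
        rcases hcases with e | e | e
        · refine absurd ?_ hne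
          have hx1 : a.right ≠ 1 := fun h1 => by rw [h1, orderOf_one] at e; omega
          exact eq_one_of_fixed hp2 hx1 (orderOf_dvd_iff_pow_eq_one.1 (dvd_of_eq e)) (left_pow_fixed a)
        · exact Or.inl ((Nat.mul_dvd_mul_right e 2).trans (dvd_of_eq (Nat.div_mul_cancel hd1)))
        · exact Or.inr (Or.inl ((Nat.mul_dvd_mul_right e 2).trans (dvd_of_eq (Nat.div_mul_cancel hd2))))
    · rintro (h | h | rfl)
      · exact exists_pow_orderOf a1 (ha1 ▸ h)
      · exact exists_pow_orderOf a2 (ha2 ▸ h)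
      · obtain ⟨x, hx⟩ := exists_psl_orderOf_char (F := ZMod m) m
        obtain ⟨a, ha⟩ := exists_orderOf_image (φ := act m n) x
        exact ⟨a, ha.trans hx⟩

end Cfsg.Agent.IsoPGL
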